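import Cfsg.Agent.H782.TrFunctor
import Cfsg.Agent.H767.FusTransfer
import Cfsg.Agent.H759.FusSolvable
import Cfsg.Agent.H771.ModelUnique

/-!
# Stability and factor systems (helper782)

The reduction modulo a normal subgroup on which the system acts as `S` does, by transfer.
-/

set_option autoImplicit false

universe u v

namespace Cfsg.Agent.H782.TrFactor

open Cfsg Cfsg.FusionSystem Cfsg.Agent.H802 Cfsg.Agent.H782.TrStab Cfsg.Agent.H782.TrFunctor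

variable {p : ℕ} {W : ∀ (Q : Type u) [Group Q], Subgroup Q}

/-- The statement for groups of order less than `n`. -/
def Below (p : ℕ) (W : ∀ (Q : Type u) [Group Q], Subgroup Q) (B : Type v) [CommGroup B]
    (n : ℕ) : Prop :=
  ∀ (Ω : Type u) [Group Ω] (S : Subgroup Ω) [Finite S], Nat.card S < n → IsPGroup p S →
    ∀ (F : FusionSystem S), F.IsSaturated p → ∀ θ : S →* B, Good F θ (inducedFunctor W S) →
      Stable F θ

section
variable {Ω : Type u} [Group Ω] {S : Subgroup Ω} {B : Type v} [CommGroup B]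

/-- A map with source in `N_S(V)` containing `V` and preserving `V` is a map of `N_F(V)`. -/
theorem mem_normalizerHom_of_mapsTo [Finite S] {F : FusionSystem S} {V P : Subgroup Ω}
    {φ : P →* Ω} (hφ : φ ∈ F.Hom P) (hVP : V ≤ P) (hPN : P ≤ Subgroup.normalizer (V : Set Ω))
    (h : ∀ x : P, (x : Ω) ∈ V → φ x ∈ V) : φ ∈ F.normalizerHom V P := by
  have hPS := hom_le hφ
  have hfin : Finite V := finite_of_le (hVP.trans hPS)
  have hres := restrict_mem hφ hVP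
  have hr : (φ.comp (Subgroup.inclusion hVP)).range = V :=
    range_eq_of_mapsTo hres (fun x => h _ x.2)
  refine ⟨hφ, le_inf hPS hPN, fun x => ?_, φ.comp (Subgroup.inclusion (sup_le le_rfl hVP)),
    restrict_mem hφ _, fun x => rfl, ?_⟩
  · exact apply_mem_normalizerIn hφ hVP hPN hr (fun _ _ => rfl) x
  · ext z
    constructor
    · rintro ⟨x, hx, rfl⟩
      exact h _ hx
    · intro hz
      obtain ⟨x, rfl⟩ := hr.ge hz
      exact ⟨⟨x, (le_sup_right : V ≤ P ⊔ V) x.2⟩, x.2, rfl⟩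

theorem eq_of_pow_eq [Finite S] [Fact p.Prime] (hS : IsPGroup p S) (θ : S →* B) {m : ℕ}
    (hm : ¬ p ∣ m) {a b : S} (h : θ a ^ m = θ b ^ m) : θ a = θ b := by
  have h1 : θ (a * b⁻¹) ^ m = 1 := by
    rw [map_mul, map_inv, mul_pow, h, inv_pow, mul_inv_cancel]
  obtain ⟨k, hk⟩ := hS.exists_orderOf_eq_pow (a * b⁻¹)  
  have h2 : orderOf (θ (a * b⁻¹)) ∣ p ^ k := by
    rw [← hk]
    exact orderOf_map_dvd θ _
  have h3 : orderOf (θ (a * b⁻¹)) ∣ m := orderOf_dvd_of_pow_eq_one h1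
  have hcop : Nat.Coprime (p ^ k) m :=
    ((Nat.Prime.coprime_iff_not_dvd Fact.out).2 hm).pow_left k
  have h4 : orderOf (θ (a * b⁻¹)) = 1 := Nat.eq_one_of_dvd_coprimes hcop h2 h3
  rw [orderOf_eq_one_iff, map_mul, map_inv, mul_inv_eq_one] at h4
  exact h4

/-- **The factor step.** -/
theorem stable_of_factor [Finite S] [Fact p.Prime] (hS : IsPGroup p S)
    (hIH : Below p W B (Nat.card S)) {D : FusionSystem S}
    (hD : D.IsSaturated p) {Q : Subgroup Ω} (hQn : D.IsNormal Q) (hQ1 : Q ≠ ⊥) 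
    (hact : ∀ (P : Subgroup Ω) (φ : P →* Ω), φ ∈ D.Hom P → ∀ z : P, (z : Ω) ∈ Q →
      ∃ s ∈ S, φ z = s * z * s⁻¹) {θ : S →* B}
    (hV : ∀ V : Subgroup Ω, V ≤ S → S ≤ Subgroup.normalizer (V : Set Ω) → Q < V → Good D θ V)
    (hW : IsCharPFunctor p W) (hQS : Q ≠ S) : Stable D θ := by
  have hQc := H759.IsNormal.stronglyClosed hQn
  have hQle : Q ≤ S := hQn.1
  have hnorm := H759.normal_subgroupOf_of_stronglyClosed hQc
  set π := QuotientGroup.mk' (Q.subgroupOf S) with hπ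
  have hker : ∀ s : S, π s = 1 ↔ (s : Ω) ∈ Q := fun s => H759.mk'_eq_one_iff s
  have hrange : π.range = ⊤ := H759.range_mk'
  obtain ⟨E, hE⟩ := H759.exists_factorSystem hQc hker hrange
  have hEs := H759.isSaturated_factor hS hD hQc hE
  have hSp' : IsPGroup p (⊤ : Subgroup (S ⧸ Q.subgroupOf S)) :=
    (hS.to_quotient (Q.subgroupOf S)).to_subgroup _
  have hQfin : Finite Q := finite_of_le hQle
  have hQcard : 1 < Nat.card Q := by
    have : Nontrivial Q := (Subgroup.nontrivial_iff_ne_bot Q).2 hQ1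
    exact Finite.one_lt_card
  have hmulcard : Nat.card (S ⧸ Q.subgroupOf S) * Nat.card Q = Nat.card S := by
    rw [Subgroup.card_eq_card_quotient_mul_card_subgroup (Q.subgroupOf S),
      Nat.card_congr (Subgroup.subgroupOfEquivOfLe hQle).toEquiv]
  have hpos : 0 < Nat.card (S ⧸ Q.subgroupOf S) := Nat.card_pos
  have hcardlt : Nat.card (⊤ : Subgroup (S ⧸ Q.subgroupOf S)) < Nat.card S := by
    rw [Subgroup.card_top]
    nlinarith
  -- the transfer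
  obtain ⟨m, τ, hm, hτ, hτe⟩ := H767.FusTransfer.exists_transfer hS hD θ
  have hτS : Stable D τ := fun P φ hφ x hx hy => hτ P φ hφ x
  have hτQ : ∀ z : S, (z : Ω) ∈ Q → τ z = θ z ^ m := by
    intro z hz
    refine hτe z (fun y P φ hφ hy hyz => ?_)
    have hyQ : (y : Ω) ∈ Q := by
      rw [Subgroup.mem_zpowers_iff] at hyz
      obtain ⟨k, rfl⟩ := hyz
      rw [Subgroup.coe_zpow]
      exact Q.zpow_mem hz k
    obtain ⟨s, hs, he⟩ := hact P φ hφ ⟨y, hy⟩ hyQ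
    have h1 : (⟨φ ⟨y, hy⟩, hom_apply_mem hφ _⟩ : S) = ⟨s, hs⟩ * y * ⟨s, hs⟩⁻¹ := Subtype.ext he
    rw [h1, map_mul, map_mul, map_inv, mul_comm (θ ⟨s, hs⟩), mul_inv_cancel_right]
  -- the modified character
  set θ' : S →* B := θ ^ m / τ with hθ'
  have hθ'v : ∀ s : S, θ' s = θ s ^ m / τ s := fun s => rfl
  have hinv' : ∀ {P : Subgroup Ω} {φ : P →* Ω}, φ ∈ D.Hom P → Inv θ φ → Inv θ' φ := by
    intro P φ hφ hi x hx hy
    rw [hθ'v, hθ'v, hi x hx hy, hτS P φ hφ x hx hy]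
  have hle : Q.subgroupOf S ≤ θ'.ker := by
    intro z hz
    rw [MonoidHom.mem_ker, hθ'v, hτQ z hz, div_self']
  let θb : (S ⧸ Q.subgroupOf S) →* B := QuotientGroup.lift (Q.subgroupOf S) θ' hle
  have hθb : ∀ s : S, θb (π s) = θ' s := fun s => rfl
  let θt : (⊤ : Subgroup (S ⧸ Q.subgroupOf S)) →* B := θb.comp (Subgroup.subtype _)
  have hθt : ∀ (s : S) (h : π s ∈ (⊤ : Subgroup (S ⧸ Q.subgroupOf S))),
      θt ⟨π s, h⟩ = θ' s := fun s h => rfl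
  -- goodness in the factor system
  have hntop : (⊤ : Subgroup (S ⧸ Q.subgroupOf S)) ≠ ⊥ := by
    intro h
    apply hQS
    refine le_antisymm hQle (fun x hx => ?_)
    have h1 : π ⟨x, hx⟩ ∈ (⊥ : Subgroup (S ⧸ Q.subgroupOf S)) := h ▸ Subgroup.mem_top _
    exact (hker ⟨x, hx⟩).1 (Subgroup.mem_bot.1 h1)
  set w' : Subgroup (S ⧸ Q.subgroupOf S) := inducedFunctor W ⊤ with hw'
  have hw'ne : w' ≠ ⊥ := w_ne_bot hW hSp' hntop
  have hw'n : ∀ g : S ⧸ Q.subgroupOf S, ∀ x ∈ w', g * x * g⁻¹ ∈ w' := by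
    intro g x hx
    have h1 := w_normalizer hW hSp' (W := W)
    have h2 : g ∈ Subgroup.normalizer ((⊤ : Subgroup (S ⧸ Q.subgroupOf S)) : Set _) := by
      rw [Subgroup.mem_normalizer_iff]
      intro y
      exact ⟨fun _ => Subgroup.mem_top _, fun _ => Subgroup.mem_top _⟩
    exact (Subgroup.mem_normalizer_iff.1 (h1 h2) x).1 hx
  set V : Subgroup Ω := preimageAlong π w' with hVdef
  have hVS : V ≤ S := H759.preimageAlong_le
  have hVmem : ∀ x : Ω, x ∈ V ↔ ∃ hx : x ∈ S, π ⟨x, hx⟩ ∈ w' := fun x => H759.mem_preimageAlong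
  have hVnorm : S ≤ Subgroup.normalizer (V : Set Ω) := by
    have hone : ∀ g ∈ S, ∀ x ∈ V, g * x * g⁻¹ ∈ V := by
      intro g hg x hx
      obtain ⟨hxS, hx'⟩ := (hVmem x).1 hx
      refine (hVmem _).2 ⟨S.mul_mem (S.mul_mem hg hxS) (S.inv_mem hg), ?_⟩
      have h1 : π ⟨g * x * g⁻¹, S.mul_mem (S.mul_mem hg hxS) (S.inv_mem hg)⟩ =
          π ⟨g, hg⟩ * π ⟨x, hxS⟩ * (π ⟨g, hg⟩)⁻¹ := by
        rw [← map_inv, ← map_mul, ← map_mul]
        rfl
      rw [h1]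
      exact hw'n _ _ hx'
    intro g hg
    rw [Subgroup.mem_normalizer_iff]
    intro x
    refine ⟨hone g hg x, fun hx => ?_⟩
    have h1 := hone g⁻¹ (S.inv_mem hg) _ hx
    have h2 : g⁻¹ * (g * x * g⁻¹) * g⁻¹⁻¹ = x := by group
    rwa [h2] at h1
  have hQV : Q < V := by
    refine lt_of_le_of_ne (H759.le_preimageAlong hQle hker) (fun heq => hw'ne ?_)
    rw [Subgroup.eq_bot_iff_forall]
    intro y hy
    obtain ⟨s, rfl⟩ := QuotientGroup.mk'_surjective (Q.subgroupOf S) y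
    rw [← hπ]
    have h1 : (s : Ω) ∈ V := (hVmem s).2 ⟨s.2, hy⟩
    rw [← heq] at h1
    exact (hker s).2 h1
  have hgoodV := hV V hVS hVnorm hQV
  have hgoodE : Good E θt w' := by
    rintro P' φ' ⟨hφ'E, -, -, ψ', hψ', hψ'φ, hψ'w⟩
    obtain ⟨ψ, hψ, hψe⟩ := H759.exists_map_of_factor hE hψ'
    have hVle : V ≤ preimageAlong π (P' ⊔ w') := H759.preimageAlong_mono le_sup_right
    have hψV : ∀ x : ↥(preimageAlong π (P' ⊔ w')), (x : Ω) ∈ V → ψ x ∈ V := by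
      rintro ⟨x, hx⟩ hxV
      obtain ⟨hxS, hxw⟩ := (hVmem x).1 hxV
      have hxs : π ⟨x, hxS⟩ ∈ P' ⊔ w' := (le_sup_right : w' ≤ P' ⊔ w') hxw
      have h1 := hψe x hx hxS hxs (hom_apply_mem hψ _)
      refine (hVmem _).2 ⟨hom_apply_mem hψ _, ?_⟩
      rw [← h1]
      exact hψ'w.le ⟨⟨_, hxs⟩, hxw, rfl⟩
    have hmem : ψ ∈ D.normalizerHom V (preimageAlong π (P' ⊔ w')) :=
      mem_normalizerHom_of_mapsTo hψ hVle (H759.preimageAlong_le.trans hVnorm) hψV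
    have hi : Inv θ' ψ := hinv' hψ (hgoodV _ ψ hmem)
    rintro ⟨y, hyP'⟩ hy hy'
    obtain ⟨s, rfl⟩ := QuotientGroup.mk'_surjective (Q.subgroupOf S) y
    rw [← hπ] at hyP'
    have hsup : π s ∈ P' ⊔ w' := (le_sup_left : P' ≤ P' ⊔ w') hyP'
    have hspre : (s : Ω) ∈ preimageAlong π (P' ⊔ w') := H759.mem_preimageAlong.2 ⟨s.2, hsup⟩
    have h1 := hψe s hspre s.2 hsup (hom_apply_mem hψ _)
    have h2 : ψ' ⟨π s, hsup⟩ = φ' ⟨π s, hyP'⟩ := hψ'φ ⟨π s, hyP'⟩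
    have h3 := hi ⟨s, hspre⟩ s.2 (hom_apply_mem hψ _)
    have h4 : θt ⟨φ' ⟨π s, hyP'⟩, hy'⟩ = θ' ⟨ψ ⟨s, hspre⟩, hom_apply_mem hψ _⟩ := by
      rw [← hθt _ (Subgroup.mem_top _)]
      congr 1
      apply Subtype.ext
      show φ' ⟨π s, hyP'⟩ = π ⟨ψ ⟨s, hspre⟩, hom_apply_mem hψ _⟩
      rw [← h2]
      exact h1
    exact h4.trans h3
  have hEst : Stable E θt := hIH _ _ hcardlt hSp' E hEs θt hgoodE
  -- back to `D`
  intro P φ hφ x hx hy
  obtain ⟨ψ, hψ, hψφ, -⟩ := hQn.2 P φ hφ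
  have hPQS : P ⊔ Q ≤ S := hom_le hψ
  have hpre : preimageAlong π (imageAlong π (P ⊔ Q)) ≤ P ⊔ Q := by
    intro y hy
    obtain ⟨hyS, hy'⟩ := H759.mem_preimageAlong.1 hy
    obtain ⟨r, hr, hrR, hry⟩ := H759.mem_imageAlong.1 hy'
    have h1 := (H759.theta_eq_iff hE).1 hry
    have h2 : y = r * (r⁻¹ * y) := by group
    rw [h2]
    exact Subgroup.mul_mem _ hrR ((le_sup_right : Q ≤ P ⊔ Q) h1)
  obtain ⟨φ', hφ', he⟩ := H759.exists_factor_map hQc hE hψ (P' := imageAlong π (P ⊔ Q)) le_top hpre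
  have hxPQ : (x : Ω) ∈ P ⊔ Q := (le_sup_left : P ≤ P ⊔ Q) x.2
  have hxi : π ⟨x, hx⟩ ∈ imageAlong π (P ⊔ Q) := H759.mem_imageAlong.2 ⟨x, hx, hxPQ, rfl⟩
  have h1 := he x hxPQ hx hxi (hom_apply_mem hψ _)
  have h2 := hEst _ φ' hφ' ⟨π ⟨x, hx⟩, hxi⟩ (Subgroup.mem_top _) (Subgroup.mem_top _)
  have h3 : ψ ⟨x, hxPQ⟩ = φ x := hψφ x
  have h4 : θ' ⟨φ x, hy⟩ = θ' ⟨x, hx⟩ := by
    have h5 : θt ⟨φ' ⟨π ⟨x, hx⟩, hxi⟩, Subgroup.mem_top _⟩ =
        θt ⟨π ⟨ψ ⟨x, hxPQ⟩, hom_apply_mem hψ _⟩, Subgroup.mem_top _⟩ := by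
      congr 1
      exact Subtype.ext h1
    rw [h5, hθt, hθt] at h2
    have h6 : (⟨φ x, hy⟩ : S) = ⟨ψ ⟨x, hxPQ⟩, hom_apply_mem hψ _⟩ := Subtype.ext h3.symm
    rw [h6]
    exact h2
  rw [hθ'v, hθ'v, hτS P φ hφ x hx hy] at h4
  exact eq_of_pow_eq hS θ hm (div_left_injective h4)

theorem isNormal_cast {T : Subgroup Ω} (h : T = S) {F : FusionSystem T} {Q : Subgroup Ω}
    (hQ : F.IsNormal Q) : (castSystem h F).IsNormal Q := by
  subst h
  exact hQ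

theorem isConj_eq_of_stronglyClosed [Finite S] {F : FusionSystem S} {Q R : Subgroup Ω}
    (hQ : F.StronglyClosed Q) (h : F.IsConj Q R) : R = Q := by
  obtain ⟨φ, hφ, hr⟩ := h
  have : Finite Q := finite_of_le hQ.1
  rw [← hr]
  exact range_eq_of_mapsTo hφ (fun x => hQ.2 Q le_rfl φ hφ x)

theorem isFullyNormalized_of_stronglyClosed [Finite S] {F : FusionSystem S} {Q : Subgroup Ω}
    (hQ : F.StronglyClosed Q) : F.IsFullyNormalized Q :=
  ⟨hQ.1, fun R hR => by rw [isConj_eq_of_stronglyClosed hQ hR]⟩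

theorem isCentric_of_stronglyClosed [Finite S] {F : FusionSystem S} {Q : Subgroup Ω}
    (hQ : F.StronglyClosed Q) (hC : centralizerIn S Q ≤ Q) : F.IsCentric Q :=
  ⟨hQ.1, fun R hR => by rw [isConj_eq_of_stronglyClosed hQ hR]; exact hC⟩

theorem le_normalizer_sup_centralizerIn {Q : Subgroup Ω}
    (hQN : S ≤ Subgroup.normalizer (Q : Set Ω)) :
    S ≤ Subgroup.normalizer ((Q ⊔ centralizerIn S Q : Subgroup Ω) : Set Ω) := by
  have hone : ∀ g ∈ S, ∀ x ∈ Q ⊔ centralizerIn S Q, g * x * g⁻¹ ∈ Q ⊔ centralizerIn S Q := by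
    intro g hg
    have h1 : Q ⊔ centralizerIn S Q ≤ (Q ⊔ centralizerIn S Q).comap (MulAut.conj g).toMonoidHom := by
      refine sup_le (fun x hx => ?_) (fun x hx => ?_)
      · exact (le_sup_left : Q ≤ Q ⊔ centralizerIn S Q)
          ((Subgroup.mem_normalizer_iff.1 (hQN hg) x).1 hx)
      · refine (le_sup_right : centralizerIn S Q ≤ Q ⊔ centralizerIn S Q)
          ⟨S.mul_mem (S.mul_mem hg hx.1) (S.inv_mem hg), ?_⟩
        show g * x * g⁻¹ ∈ Subgroup.centralizer (Q : Set Ω)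
        rw [Subgroup.mem_centralizer_iff]
        intro z hz
        have h2 : g⁻¹ * z * g ∈ Q := by
          have h3 := (Subgroup.mem_normalizer_iff.1 (hQN (S.inv_mem hg)) z).1 hz
          simpa using h3
        have h3 := Subgroup.mem_centralizer_iff.1 hx.2 _ h2
        calc z * (g * x * g⁻¹) = g * ((g⁻¹ * z * g) * x) * g⁻¹ := by group
          _ = g * (x * (g⁻¹ * z * g)) * g⁻¹ := by rw [h3]
          _ = g * x * g⁻¹ * z := by group
    exact fun x hx => h1 hx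
  intro g hg
  rw [Subgroup.mem_normalizer_iff]
  intro x
  refine ⟨hone g hg x, fun hx => ?_⟩
  have h1 := hone g⁻¹ (S.inv_mem hg) _ hx
  have h2 : g⁻¹ * (g * x * g⁻¹) * g⁻¹⁻¹ = x := by group
  rwa [h2] at h1

/-- **The normal subgroup step.** -/
theorem stable_of_normal [Finite S] [Fact p.Prime] (hS : IsPGroup p S)
    (hIH : Below p W B (Nat.card S)) (hW : IsCharPFunctor p W)
    (hctl : ∀ (G : Type u) [Group G] [Finite G],
      ControlsTransferIn p (inducedFunctor W) (⊤ : Subgroup G))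
    {E : FusionSystem S} (hE : E.IsSaturated p) {Q : Subgroup Ω} (hQn : E.IsNormal Q)
    (hQ1 : Q ≠ ⊥) {θ : S →* B}
    (hV : ∀ V : Subgroup Ω, V ≤ S → S ≤ Subgroup.normalizer (V : Set Ω) → Q < V → Good E θ V)
    (hg : Good E θ (inducedFunctor W S)) : Stable E θ := by
  have hQc := H759.IsNormal.stronglyClosed hQn
  have hQle : Q ≤ S := hQn.1
  have hQfin : Finite Q := finite_of_le hQle
  have hQN : S ≤ Subgroup.normalizer (Q : Set Ω) := H759.StronglyClosed.le_normalizer hQc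
  have hfn : E.IsFullyNormalized Q := isFullyNormalized_of_stronglyClosed hQc
  by_cases hC : centralizerIn S Q ≤ Q
  · obtain ⟨L, hL, ι, ⟨hfin, hι, hT, -⟩, -, -⟩ := H771.exists_model hS hE hQn
      (isCentric_of_stronglyClosed hQc hC)
    exact stable_of_isRealizedBy hW (hctl L) hS hι hT hg
  -- the system `D`
  set K : Subgroup (MulAut Q) := autInducedBy S Q with hK
  have hKN : kNorm S Q K = S := by
    refine le_antisymm (kNorm_le S Q K) (fun g hg => ?_)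
    obtain ⟨α, hα⟩ := exists_conjAut (hQN hg)
    exact ⟨hg, α, (mem_autInducedBy_iff S Q α).2 ⟨g, hg, hα⟩, hα⟩
  set D : FusionSystem S := castSystem hKN (kNormSystem E hQle K) with hDdef
  have hDHom : ∀ P, D.Hom P = kNormHom E Q K P := fun P => castSystem_hom _ _ P
  have hDle : ∀ P, D.Hom P ⊆ E.Hom P := fun P φ hφ => by
    rw [hDHom] at hφ
    exact mem_of_mem_kNormHom hφ
  have hDs : D.IsSaturated p := isSaturated_cast _ (kNormSystem_isSaturated hS hE hQle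
    (goodK_of_le hS hE (isFullyCentralized_of_isFullyNormalized hS hE hfn) le_rfl))
  have hDn : D.IsNormal Q := isNormal_cast _ (NormSys.isNormal_kNormSystem hQle (by rw [hKN]; exact hQle))
  have hDnorm : ∀ V P, D.normalizerHom V P ⊆ E.normalizerHom V P := by
    rintro V P φ ⟨h1, h2, h3, ψ, hψ, h4⟩
    exact ⟨hDle _ h1, h2, h3, ψ, hDle _ hψ, h4⟩
  have hact : ∀ (P : Subgroup Ω) (φ : P →* Ω), φ ∈ D.Hom P → ∀ z : P, (z : Ω) ∈ Q →
      ∃ s ∈ S, φ z = s * z * s⁻¹ := by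
    intro P φ hφ z hz
    rw [hDHom] at hφ
    obtain ⟨-, -, ψ, hψ, h1, α, hα, h2⟩ := hφ
    obtain ⟨s, hs, hsα⟩ := (mem_autInducedBy_iff S Q α).1 hα
    refine ⟨s, hs, ?_⟩
    rw [← h1, ← hsα ⟨z, hz⟩, ← h2]
    rfl
  have hQneS : Q ≠ S := by
    rintro rfl
    exact hC inf_le_left
  have hDst : Stable D θ := stable_of_factor hS hIH hDs hDn hQ1 hact
    (fun V h1 h2 h3 P φ hφ => hV V h1 h2 h3 P φ (hDnorm V P hφ)) hW hQneS
  -- the subgroup `Y = Q C_S(Q)`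
  have hYN := le_normalizer_sup_centralizerIn (S := S) (Q := Q) hQN
  have hYS : Q ⊔ centralizerIn S Q ≤ S := sup_le hQle inf_le_left
  have hQY : Q < Q ⊔ centralizerIn S Q := by
    refine lt_of_le_of_ne le_sup_left (fun heq => hC ?_)
    exact (le_sup_right : centralizerIn S Q ≤ Q ⊔ centralizerIn S Q).trans heq.ge
  generalize hY : Q ⊔ centralizerIn S Q = Y at hYN hYS hQY
  have hCY : centralizerIn S Q ≤ Y := hY ▸ le_sup_right
  have hYle : ∀ T : Subgroup Ω, Q ≤ T → centralizerIn S Q ≤ T → Y ≤ T := fun T h1 h2 =>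
    hY ▸ sup_le h1 h2
  have hgoodY := hV Y hYS hYN hQY
  -- decomposition of the maps of `E`
  intro P φ hφ x hx hy
  obtain ⟨R, hPR, hQR, ψ, hψ, hψQ', hψφ'⟩ : ∃ (R : Subgroup Ω) (_ : P ≤ R) (_ : Q ≤ R)
      (ψ : R →* Ω), ψ ∈ E.Hom R ∧ (∀ z : R, (z : Ω) ∈ Q → ψ z ∈ Q) ∧
        ∀ (z : Ω) (hz : z ∈ P) (hz' : z ∈ R), ψ ⟨z, hz'⟩ = φ ⟨z, hz⟩ := by
    obtain ⟨ψ, hψ, hψφ, hψQ⟩ := hQn.2 P φ hφ
    exact ⟨P ⊔ Q, le_sup_left, le_sup_right, ψ, hψ, fun z hz => hψQ.le ⟨z, hz, rfl⟩,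
      fun z hz _ => hψφ ⟨z, hz⟩⟩
  have hRS : R ≤ S := hom_le hψ
  set α : Q →* Ω := ψ.comp (Subgroup.inclusion hQR) with hα
  have hαE : α ∈ E.Hom Q := restrict_mem hψ hQR
  have hαr : α.range = Q := range_eq_of_mapsTo hαE (fun z => hψQ' _ z.2)
  obtain ⟨β, hβ, hβe⟩ := (isReceptive_of_isFullyNormalized hS hE hfn).2 Q α hαE hαr
  have hRext : R ≤ extender S Q α := le_extender_of_extends hQR hRS (hRS.trans hQN)
    (hom_apply_mem hψ) (fun z hz => rfl)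
  have hCext : centralizerIn S Q ≤ extender S Q α := centralizerIn_le_extender S Q α
  have hRY : R ⊔ Y ≤ extender S Q α := sup_le hRext (hYle _ (hQR.trans hRext) hCext)
  set γ : ↥(R ⊔ Y) →* Ω := β.comp (Subgroup.inclusion hRY) with hγ
  have hγE : γ ∈ E.Hom (R ⊔ Y) := restrict_mem hβ hRY
  have hRYS : R ⊔ Y ≤ S := hom_le hγE
  have hQRY : Q ≤ R ⊔ Y := hQR.trans le_sup_left
  have hγQ : ∀ (z : Ω) (hz : z ∈ Q), γ ⟨z, hQRY hz⟩ = α ⟨z, hz⟩ := fun z hz =>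
    hβe z hz _
  have hγY : ∀ z : ↥(R ⊔ Y), (z : Ω) ∈ Y → γ z ∈ Y := by
    have h1 : Y ≤ (Y.comap γ).map (R ⊔ Y).subtype := by
      refine hYle _ (fun z hz => ?_) (fun z hz => ?_)
      · refine ⟨⟨z, hQRY hz⟩, ?_, rfl⟩
        refine hQY.le ?_
        rw [hγQ z hz]
        exact hψQ' _ hz
      · have hz' : z ∈ R ⊔ Y := (le_sup_right : Y ≤ R ⊔ Y) (hCY hz)
        refine ⟨⟨z, hz'⟩, ?_, rfl⟩
        refine hCY ?_
        exact apply_mem_centralizerIn hγE hQRY hαr (fun u hu => hγQ u hu) ⟨z, hz'⟩ hz.2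
    rintro ⟨z, hz⟩ hzY
    obtain ⟨z', hz', hzz⟩ := h1 hzY
    have : z' = ⟨z, hz⟩ := Subtype.ext hzz
    rw [← this]
    exact hz'
  have hγinv : Inv θ γ := hgoodY _ γ (mem_normalizerHom_of_mapsTo hγE le_sup_right
    (hRYS.trans hYN) hγY)
  -- the complementary map
  set γR : R →* Ω := γ.comp (Subgroup.inclusion le_sup_left) with hγR
  have hγRE : γR ∈ E.Hom R := restrict_mem hγE le_sup_left
  obtain ⟨δ, hδ, -, hδ1, -⟩ := exists_inv hγRE rfl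
  have hδR : ∀ z : γR.range, δ z ∈ R := by
    rintro ⟨_, u, rfl⟩
    have : δ ⟨γR u, ⟨u, rfl⟩⟩ = u := hδ1 _ _
    rw [this]
    exact u.2
  obtain ⟨χ, hχ, hχe⟩ := exists_comp hδ hψ hδR
  have hχv : ∀ u : R, χ ⟨γR u, ⟨u, rfl⟩⟩ = ψ u := by
    intro u
    rw [hχe]
    congr 1
    exact Subtype.ext (hδ1 _ _)
  have hQγ : Q ≤ γR.range := by
    intro z hz
    obtain ⟨⟨u, hu⟩, rfl⟩ := hαr.ge hz
    exact ⟨⟨u, hQR hu⟩, hγQ u hu⟩
  have hχQ : ∀ (z : Ω) (hz : z ∈ γR.range), z ∈ Q → χ ⟨z, hz⟩ = z := by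
    intro z hz hzQ
    obtain ⟨⟨u, hu⟩, hue⟩ := hαr.ge hzQ
    have h1 : γR ⟨u, hQR hu⟩ = z := by
      rw [← hue]
      exact hγQ u hu
    have h2 := hχv ⟨u, hQR hu⟩
    have h3 : (⟨z, hz⟩ : γR.range) = ⟨γR ⟨u, hQR hu⟩, ⟨_, rfl⟩⟩ := Subtype.ext h1.symm
    rw [h3, h2]
    exact hue
  have hχD : χ ∈ D.Hom γR.range := by
    rw [hDHom]
    refine ⟨?_, fun z => ?_, χ.comp (Subgroup.inclusion (sup_le le_rfl hQγ)),
      restrict_mem hχ _, fun z => rfl, 1, K.one_mem, fun z => ?_⟩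
    · rw [hKN]
      exact hom_le hχ
    · rw [hKN]
      exact hom_apply_mem hχ z
    · exact hχQ z (hQγ z.2) z.2
  have hχinv := hDst _ χ hχD
  have hxR : (x : Ω) ∈ R := hPR x.2
  have hxRY : (x : Ω) ∈ R ⊔ Y := (le_sup_left : R ≤ R ⊔ Y) hxR
  have h1 : ψ ⟨x, hxR⟩ = φ x := hψφ' x x.2 hxR
  have h2 := hγinv ⟨x, hxRY⟩ hx (hom_apply_mem hγE _)
  have h3 := hχinv ⟨γR ⟨x, hxR⟩, ⟨_, rfl⟩⟩ (hom_apply_mem hγRE _) (hom_apply_mem hχ _)
  have h4 : (⟨χ ⟨γR ⟨x, hxR⟩, ⟨_, rfl⟩⟩, hom_apply_mem hχ _⟩ : S) = ⟨φ x, hy⟩ :=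
    Subtype.ext ((hχv ⟨x, hxR⟩).trans h1)
  rw [h4] at h3
  rw [h3, ← h2]
  rfl

end

end Cfsg.Agent.H782.TrFactor
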