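import Cfsg.Agent.H802.FusKSat

/-!
# Normalizer systems: basic facts (helper782)

`Q` is normal and (if `F`-centric) centric in `N_F(Q)`; maps preserving `Q` belong to `N_F(Q)`.
-/

set_option autoImplicit false

namespace Cfsg.Agent.H782.NormSys

open Cfsg Cfsg.FusionSystem Cfsg.Agent.H802

variable {Ω : Type*} [Group Ω] {S : Subgroup Ω}

/-- The extension of a map of the `K`-normalizer system to `P ⊔ Q` is again a map of it. -/
theorem sup_mem_kNormHom {F : FusionSystem S} {Q : Subgroup Ω} (hQ : Q ≤ S)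
    {K : Subgroup (MulAut Q)} (hQK : Q ≤ kNorm S Q K) {P : Subgroup Ω} {φ : P →* Ω}
    (h : φ ∈ kNormHom F Q K P) : ∃ ψ ∈ kNormHom F Q K (P ⊔ Q),
      (∀ x : P, ψ (Subgroup.inclusion le_sup_left x) = φ x) ∧
      ∃ α ∈ K, ∀ x : Q, ψ (Subgroup.inclusion le_sup_right x) = (α x : Q) := by
  obtain ⟨hP, hφ, ψ, hψ, h1, α, hα, h2⟩ := h
  refine ⟨ψ, ⟨sup_le hP hQK, ?_, ?_⟩, h1, α, hα, h2⟩
  · intro x
    refine mem_of_sup (T := kNorm S Q K) (fun y => ?_) (fun y => ?_) x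
    · rw [h1]
      exact hφ y
    · rw [h2]
      exact hQK (α y).2
  · have hle : (P ⊔ Q) ⊔ Q ≤ P ⊔ Q := sup_le le_rfl le_sup_right
    refine ⟨ψ.comp (Subgroup.inclusion hle), restrict_mem hψ hle, fun x => rfl, α, hα,
      fun x => h2 x⟩

theorem map_subgroupOf_eq {P Q : Subgroup Ω} {ψ : ↥(P ⊔ Q) →* Ω} {α : MulAut Q}
    (h : ∀ x : Q, ψ (Subgroup.inclusion le_sup_right x) = (α x : Q)) :
    (Q.subgroupOf (P ⊔ Q)).map ψ = Q := by
  ext z
  constructor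
  · rintro ⟨x, hx, rfl⟩
    have h3 := h ⟨x, hx⟩
    have h4 : Subgroup.inclusion (le_sup_right : Q ≤ P ⊔ Q) ⟨x, hx⟩ = x := rfl
    rw [h4] at h3
    rw [h3]
    exact (α _).2
  · intro hz
    refine ⟨Subgroup.inclusion le_sup_right (α.symm ⟨z, hz⟩), (α.symm ⟨z, hz⟩).2, ?_⟩
    rw [h, MulEquiv.apply_symm_apply]

theorem le_kNorm_top {Q : Subgroup Ω} (hQ : Q ≤ S) : Q ≤ kNorm S Q ⊤ := by
  rw [kNorm_top]
  exact le_normalizerIn hQ

/-- `Q` is normal in the `K`-normalizer system. -/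
theorem isNormal_kNormSystem {F : FusionSystem S} {Q : Subgroup Ω} (hQ : Q ≤ S)
    {K : Subgroup (MulAut Q)} (hQK : Q ≤ kNorm S Q K) : (kNormSystem F hQ K).IsNormal Q := by
  refine ⟨hQK, fun P φ hφ => ?_⟩
  obtain ⟨ψ, hψ, h1, α, hα, h2⟩ := sup_mem_kNormHom hQ hQK hφ
  exact ⟨ψ, hψ, h1, map_subgroupOf_eq h2⟩

/-- `Q` is normal in `N_F(Q)`. -/
theorem isNormal_of_isNormalizerSystem {F : FusionSystem S} {Q : Subgroup Ω} (hQ : Q ≤ S)
    {E : FusionSystem (normalizerIn S Q)} (hE : F.IsNormalizerSystem Q E) : E.IsNormal Q := by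
  refine ⟨le_normalizerIn hQ, fun P φ hφ => ?_⟩
  rw [hE, normalizerHom_eq] at hφ
  obtain ⟨ψ, hψ, h1, α, hα, h2⟩ := sup_mem_kNormHom hQ (le_kNorm_top hQ) hφ
  refine ⟨ψ, ?_, h1, map_subgroupOf_eq h2⟩
  rw [hE, normalizerHom_eq]
  exact hψ

theorem isConj_of_isNormalizerSystem {F : FusionSystem S} {Q : Subgroup Ω}
    {E : FusionSystem (normalizerIn S Q)} (hE : F.IsNormalizerSystem Q E) {P R : Subgroup Ω}
    (h : E.IsConj P R) : F.IsConj P R := by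
  obtain ⟨φ, hφ, hr⟩ := h
  rw [hE] at hφ
  exact ⟨φ, hφ.1, hr⟩

/-- A centric `Q` is centric in `N_F(Q)`. -/
theorem isCentric_of_isNormalizerSystem {F : FusionSystem S} {Q : Subgroup Ω}
    (hQ : F.IsCentric Q) {E : FusionSystem (normalizerIn S Q)} (hE : F.IsNormalizerSystem Q E) :
    E.IsCentric Q := by
  refine ⟨le_normalizerIn hQ.1, fun R hR => ?_⟩
  refine le_trans ?_ (hQ.2 R (isConj_of_isNormalizerSystem hE hR))
  exact inf_le_inf_right _ inf_le_left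

end Cfsg.Agent.H782.NormSys
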