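import Cfsg.Agent.H802.FusAlp
import Cfsg.Agent.H802.FusCentric

/-!
# Automorphisms stabilising the series `1 ≤ P ∩ T ≤ P`, `T` strongly closed (helper782)

* `map_mem_of_stronglyClosed`, `mem_of_map_mem_of_stronglyClosed` : a map of the system respects membership in a
  strongly closed subgroup `T`;
* `conj_mem_of_stronglyClosed` : `S` normalises `T`;
* `mem_pCore_of_stab` : an element of `Aut_F(P)` which centralises `P ∩ T` and `P / (P ∩ T)` lies in `O_p(Aut_F(P))`.
-/

set_option autoImplicit false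

namespace Cfsg.Agent.H782

open Cfsg Cfsg.FusionSystem Cfsg.Agent.H802

variable {Ω : Type*} [Group Ω] {S : Subgroup Ω}

theorem map_mem_of_stronglyClosed {F : FusionSystem S} {T : Subgroup Ω} (hT : F.StronglyClosed T)
    {P : Subgroup Ω} {φ : P →* Ω} (hφ : φ ∈ F.Hom P) (x : P) (hx : (x : Ω) ∈ T) : φ x ∈ T := by
  have hle : Subgroup.zpowers (x : Ω) ≤ P := (Subgroup.zpowers_le).2 x.2
  have h := hT.2 (Subgroup.zpowers (x : Ω)) ((Subgroup.zpowers_le).2 hx) _ (restrict_mem hφ hle)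
    ⟨x, Subgroup.mem_zpowers _⟩
  exact h

theorem mem_of_map_mem_of_stronglyClosed {F : FusionSystem S} {T : Subgroup Ω}
    (hT : F.StronglyClosed T) {P : Subgroup Ω} {φ : P →* Ω} (hφ : φ ∈ F.Hom P) (x : P)
    (hx : φ x ∈ T) : (x : Ω) ∈ T := by
  obtain ⟨ψ, hψ, -, h1, -⟩ := exists_inv hφ rfl
  have h2 := map_mem_of_stronglyClosed hT hψ ⟨φ x, ⟨x, rfl⟩⟩ hx
  have h3 : ψ ⟨φ x, ⟨x, rfl⟩⟩ = (x : Ω) := h1 x _
  rw [← h3]
  exact h2

theorem conj_mem_of_stronglyClosed {F : FusionSystem S} {T : Subgroup Ω} (hT : F.StronglyClosed T)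
    {s t : Ω} (hs : s ∈ S) (ht : t ∈ T) : s * t * s⁻¹ ∈ T :=
  map_mem_of_stronglyClosed hT (F.conj_mem (P := T) hT.1 hs) ⟨t, ht⟩ ht

/-- `S` normalises a strongly closed subgroup. -/
theorem le_normalizer_of_stronglyClosed {F : FusionSystem S} {T : Subgroup Ω}
    (hT : F.StronglyClosed T) : S ≤ Subgroup.normalizer (T : Set Ω) := by
  intro s hs
  rw [Subgroup.mem_normalizer_iff]
  intro t
  refine ⟨fun h => conj_mem_of_stronglyClosed hT hs h, fun h => ?_⟩
  have := conj_mem_of_stronglyClosed hT (S.inv_mem hs) h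
  have e : s⁻¹ * (s * t * s⁻¹) * s⁻¹⁻¹ = t := by group
  rwa [e] at this

/-- An element of `Aut_F(P)` which centralises `P ∩ T` and `P / (P ∩ T)` lies in `O_p(Aut_F(P))`. -/
theorem mem_pCore_of_stab {p : ℕ} [Fact p.Prime] [Finite S] (hS : IsPGroup p S) {F : FusionSystem S}
    {T : Subgroup Ω} (hT : F.StronglyClosed T) {P : Subgroup Ω} (hP : P ≤ S) (α : F.autGroup P)
    (h1 : ∀ y : P, (y : Ω) ∈ T → (α : MulAut P) y = y)
    (h2 : ∀ y : P, (((α : MulAut P) y : P) : Ω) * (y : Ω)⁻¹ ∈ T) :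
    α ∈ pCore p (F.autGroup P) := by
  -- elements of `Aut_F(P)` respect `T`
  have hA : ∀ (β : F.autGroup P) (y : P), (y : Ω) ∈ T → (((β : MulAut P) y : P) : Ω) ∈ T := by
    intro β y hy
    exact map_mem_of_stronglyClosed hT ((mem_autGroup_iff F hP _).1 β.2) y hy
  let N : Subgroup (F.autGroup P) :=
    { carrier := {β | (∀ y : P, (y : Ω) ∈ T → (β : MulAut P) y = y) ∧
        ∀ y : P, (((β : MulAut P) y : P) : Ω) * (y : Ω)⁻¹ ∈ T}
      one_mem' := by
        refine ⟨fun y _ => rfl, fun y => ?_⟩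
        show (y : Ω) * (y : Ω)⁻¹ ∈ T
        rw [mul_inv_cancel]
        exact T.one_mem
      mul_mem' := by
        rintro a b ⟨ha1, ha2⟩ ⟨hb1, hb2⟩
        refine ⟨fun y hy => ?_, fun y => ?_⟩
        · show (a : MulAut P) ((b : MulAut P) y) = y
          rw [hb1 y hy, ha1 y hy]
        · show (((a : MulAut P) ((b : MulAut P) y) : P) : Ω) * (y : Ω)⁻¹ ∈ T
          have e : (((a : MulAut P) ((b : MulAut P) y) : P) : Ω) * (y : Ω)⁻¹ =
              ((((a : MulAut P) ((b : MulAut P) y) : P) : Ω) * ((((b : MulAut P) y : P) : Ω))⁻¹) *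
              ((((b : MulAut P) y : P) : Ω) * (y : Ω)⁻¹) := by group
          rw [e]
          exact T.mul_mem (ha2 _) (hb2 _)
      inv_mem' := by
        rintro a ⟨ha1, ha2⟩
        have key : ∀ y : P, (a : MulAut P) ((a : MulAut P)⁻¹ y) = y :=
          fun y => (a : MulAut P).apply_symm_apply y
        refine ⟨fun y hy => ?_, fun y => ?_⟩
        · show (a : MulAut P)⁻¹ y = y
          apply (a : MulAut P).injective
          rw [key, ha1 y hy]
        · show ((((a : MulAut P)⁻¹ y : P)) : Ω) * (y : Ω)⁻¹ ∈ T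
          have h := T.inv_mem (ha2 ((a : MulAut P)⁻¹ y))
          rw [key, mul_inv_rev, inv_inv] at h
          exact h }
  have hNn : N.Normal := by
    refine ⟨fun a ha g => ?_⟩
    have key : ∀ y : P, (g : MulAut P) ((g : MulAut P)⁻¹ y) = y :=
      fun y => (g : MulAut P).apply_symm_apply y
    have hinv : ∀ y : P, (y : Ω) ∈ T → (((g : MulAut P)⁻¹ y : P) : Ω) ∈ T := fun y hy => hA g⁻¹ y hy
    refine ⟨fun y hy => ?_, fun y => ?_⟩
    · show (g : MulAut P) ((a : MulAut P) ((g : MulAut P)⁻¹ y)) = y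
      rw [ha.1 _ (hinv y hy), key]
    · show (((g : MulAut P) ((a : MulAut P) ((g : MulAut P)⁻¹ y)) : P) : Ω) * (y : Ω)⁻¹ ∈ T
      have h := hA g ((a : MulAut P) ((g : MulAut P)⁻¹ y) * ((g : MulAut P)⁻¹ y)⁻¹) (ha.2 _)
      rw [map_mul, map_inv, key] at h
      exact h
  have hNp : IsPGroup p N := by
    rintro ⟨a, ha1, ha2⟩
    have hfin : Finite P := finite_of_le hP
    -- `a ^ n y = q ^ n y`
    have hpow : ∀ (n : ℕ) (y : P), ((a : MulAut P) ^ n) y = ((a : MulAut P) y * y⁻¹) ^ n * y := by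
      intro n
      induction n with
      | zero => intro y; simp
      | succ n ih =>
        intro y
        rw [pow_succ', MulAut.mul_apply, ih, map_mul, map_pow, map_mul]
        have h3 : (a : MulAut P) ((a : MulAut P) y * y⁻¹) = (a : MulAut P) y * y⁻¹ :=
          ha1 _ (ha2 y)
        rw [map_mul] at h3
        rw [h3]
        rw [pow_succ]
        group
    obtain ⟨k, hk⟩ := IsPGroup.iff_card.1 (hS.to_le hP)
    refine ⟨k, ?_⟩
    apply Subtype.ext
    apply Subtype.ext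
    show (a : MulAut P) ^ p ^ k = 1
    apply MulEquiv.ext
    intro y
    rw [hpow]
    have h4 : ((a : MulAut P) y * y⁻¹) ^ p ^ k = 1 := by
      rw [← hk]
      exact pow_card_eq_one'
    rw [h4, one_mul]
    rfl
  exact (le_sSup (a := N) ⟨hNn, hNp⟩ : N ≤ pCore p (F.autGroup P)) ⟨h1, h2⟩

end Cfsg.Agent.H782
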