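import Cfsg.Agent.H782.TrStab
import Cfsg.Prelude.Def_ConjugacyFunctors

/-!
# Characteristic functors and fusion systems (helper782)
-/

set_option autoImplicit false

universe u

open scoped commutatorElement

namespace Cfsg.Agent.H782.TrFunctor

open Cfsg Cfsg.FusionSystem Cfsg.Agent.H802 Cfsg.Agent.H782.TrStab

variable {p : ℕ} {W : ∀ (Q : Type u) [Group Q], Subgroup Q}

section W
variable {Ω : Type u} [Group Ω] {Ω' : Type u} [Group Ω']

theorem w_le (P : Subgroup Ω) : inducedFunctor W P ≤ P := Subgroup.map_subtype_le _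

theorem w_subgroupOf (P : Subgroup Ω) : (inducedFunctor W P).subgroupOf P = W P := by
  unfold inducedFunctor
  exact Subgroup.comap_map_eq_self_of_injective P.subtype_injective _

theorem w_ne_bot (hW : IsCharPFunctor p W) {P : Subgroup Ω} [Finite P] (hP : IsPGroup p P)
    (hne : P ≠ ⊥) : inducedFunctor W P ≠ ⊥ := by
  intro h
  have hnt : Nontrivial P := (Subgroup.nontrivial_iff_ne_bot P).2 hne
  refine hW.1 P hP hnt ?_
  rw [← w_subgroupOf (W := W) P, h]
  exact Subgroup.bot_subgroupOf P

/-- Functoriality for injective homomorphisms. -/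
theorem w_map (hW : IsCharPFunctor p W) {P : Subgroup Ω} [Finite P] (hP : IsPGroup p P)
    {φ : P →* Ω'} (hφ : Function.Injective φ) :
    ((inducedFunctor W P).subgroupOf P).map φ = inducedFunctor W φ.range := by
  rw [w_subgroupOf]
  have h1 := hW.2 P φ.range hP (MonoidHom.ofInjective hφ)
  unfold inducedFunctor
  rw [← h1, Subgroup.map_map]
  congr 1

theorem w_map' (hW : IsCharPFunctor p W) {P : Subgroup Ω} [Finite P] (hP : IsPGroup p P)
    {R : Subgroup Ω'} {φ : P →* Ω'} (hφ : Function.Injective φ) (hr : φ.range = R) :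
    ((inducedFunctor W P).subgroupOf P).map φ = inducedFunctor W R := by
  subst hr
  exact w_map hW hP hφ

/-- Functoriality for injective homomorphisms of the big groups. -/
theorem w_map_big (hW : IsCharPFunctor p W) {P : Subgroup Ω} [Finite P] (hP : IsPGroup p P)
    {f : Ω →* Ω'} (hf : Function.Injective f) :
    (inducedFunctor W P).map f = inducedFunctor W (P.map f) := by
  have h1 := w_map' hW hP (φ := f.comp P.subtype) (R := P.map f)
    (hf.comp P.subtype_injective) (by rw [MonoidHom.range_comp, Subgroup.range_subtype])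
  rw [← h1, w_subgroupOf, ← Subgroup.map_map]
  rfl

theorem w_normalizer (hW : IsCharPFunctor p W) {P : Subgroup Ω} [Finite P] (hP : IsPGroup p P) :
    Subgroup.normalizer (P : Set Ω) ≤ Subgroup.normalizer ((inducedFunctor W P : Subgroup Ω) : Set Ω) := by
  intro g hg
  have h1 : P.map (MulAut.conj g).toMonoidHom = P := by
    ext x
    constructor
    · rintro ⟨y, hy, rfl⟩
      exact (Subgroup.mem_normalizer_iff.1 hg y).1 hy
    · intro hx
      refine ⟨g⁻¹ * x * g, ?_, ?_⟩
      · have h2 := (Subgroup.mem_normalizer_iff.1 ((Subgroup.normalizer (P : Set Ω)).inv_mem hg) x).1 hx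
        simpa using h2
      · show g * (g⁻¹ * x * g) * g⁻¹ = x
        group
  have h2 := w_map_big hW hP (f := (MulAut.conj g).toMonoidHom) (MulAut.conj g).injective
  rw [h1] at h2
  rw [Subgroup.mem_normalizer_iff]
  intro x
  constructor
  · intro hx
    exact h2.le ⟨x, hx, rfl⟩
  · intro hx
    obtain ⟨y, hy, hyx⟩ := h2.ge hx
    have : y = x := (MulAut.conj g).injective hyx
    rw [← this]
    exact hy

end W

/-! ### The group case -/

section Group
variable {L : Type u} [Group L]

/-- Control of transfer for a given Sylow subgroup. -/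
theorem inf_commutator_le [Finite L] [Fact p.Prime] (hW : IsCharPFunctor p W)
    (hctl : ControlsTransferIn p (inducedFunctor W) (⊤ : Subgroup L)) (T : Sylow p L) :
    (T : Subgroup L) ⊓ _root_.commutator L ≤
      ⁅Subgroup.normalizer ((inducedFunctor W (T : Subgroup L) : Subgroup L) : Set L),
        Subgroup.normalizer ((inducedFunctor W (T : Subgroup L) : Subgroup L) : Set L)⁆ := by
  obtain ⟨T₀, -, hT₀, hi, he⟩ := hctl
  rw [Subgroup.relIndex_top_right] at hi
  let T₁ : Sylow p L := hT₀.toSylow hi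
  obtain ⟨g, hg⟩ := MulAction.exists_smul_eq L T₁ T
  have hg' : (T : Subgroup L) = T₀.map (MulAut.conj g).toMonoidHom := by
    rw [← hg]
    rfl
  rw [top_inf_eq] at he
  have hw := w_map_big hW hT₀ (f := (MulAut.conj g).toMonoidHom) (MulAut.conj g).injective
  rw [← hg'] at hw
  rw [← hw]
  intro y hy
  have h1 : g⁻¹ * y * g ∈ T₀ := by
    have h2 := hy.1
    rw [SetLike.mem_coe, hg'] at h2
    obtain ⟨z, hz, rfl⟩ := h2
    have : g⁻¹ * (MulAut.conj g).toMonoidHom z * g = z := by
      show g⁻¹ * (g * z * g⁻¹) * g = z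
      group
    rw [this]
    exact hz
  have h2 : g⁻¹ * y * g ∈ ⁅(⊤ : Subgroup L), (⊤ : Subgroup L)⁆ := by
    have h3 : (⁅(⊤ : Subgroup L), (⊤ : Subgroup L)⁆ : Subgroup L) = _root_.commutator L := rfl
    rw [h3]
    have h4 := (inferInstance : (_root_.commutator L).Normal).conj_mem y hy.2 g⁻¹
    simpa using h4
  have h3 := he.le ⟨h1, h2⟩
  have h4 : y = (MulAut.conj g).toMonoidHom (g⁻¹ * y * g) := by
    show y = g * (g⁻¹ * y * g) * g⁻¹
    group
  rw [h4]
  have h5 : (Subgroup.normalizer ((inducedFunctor W T₀ : Subgroup L) : Set L)).map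
      (MulAut.conj g).toMonoidHom = Subgroup.normalizer
        (((inducedFunctor W T₀ : Subgroup L).map (MulAut.conj g).toMonoidHom : Subgroup L) : Set L) := by
    exact Subgroup.map_equiv_normalizer_eq _ (MulAut.conj g)
  rw [← h5, ← Subgroup.map_commutator]
  exact ⟨_, h3.2, rfl⟩

/-- The map of the system induced by an element of the realizing group. -/
theorem exists_hom_of_conj {Ω : Type*} [Group Ω] {S : Subgroup Ω} {F : FusionSystem S}
    {L : Type*} [Group L] {ι : S →* L} (hι : F.IsRealizedBy ι) {P : Subgroup Ω} (hP : P ≤ S)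
    (g : L) (h : ∀ x : P, g * ι ⟨x, hP x.2⟩ * g⁻¹ ∈ ι.range) :
    ∃ φ ∈ F.Hom P, ∀ (x : P) (hx : φ x ∈ S), ι ⟨φ x, hx⟩ = g * ι ⟨x, hP x.2⟩ * g⁻¹ := by
  let e := MonoidHom.ofInjective hι.1
  let f : P →* ι.range := ((MulAut.conj g).toMonoidHom.comp
    (ι.comp (Subgroup.inclusion hP))).codRestrict ι.range h
  let φ : P →* Ω := S.subtype.comp (e.symm.toMonoidHom.comp f)
  have hφS : ∀ x : P, φ x ∈ S := fun x => (e.symm (f x)).2
  have hφ : ∀ x : P, ι ⟨φ x, hφS x⟩ = g * ι ⟨x, hP x.2⟩ * g⁻¹ := by
    intro x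
    have h1 : (e (e.symm (f x)) : L) = f x := by rw [MulEquiv.apply_symm_apply]
    exact h1
  exact ⟨φ, (hι.2 P hP φ hφS).2 ⟨g, hφ⟩, fun x hx => hφ x⟩

/-- **The group case**: a group in which `W` controls transfer. -/
theorem stable_of_isRealizedBy [Finite L] [Fact p.Prime] (hW : IsCharPFunctor p W)
    (hctl : ControlsTransferIn p (inducedFunctor W) (⊤ : Subgroup L)) {Ω : Type u} [Group Ω]
    {S : Subgroup Ω} [Finite S] (hS : IsPGroup p S) {F : FusionSystem S} {ι : S →* L}
    (hι : F.IsRealizedBy ι) (hT : ∃ T : Sylow p L, (T : Subgroup L) = ι.range) {B : Type*}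
    [CommGroup B] {θ : S →* B} (hg : Good F θ (inducedFunctor W S)) : Stable F θ := by
  obtain ⟨T, hT⟩ := hT
  set w : Subgroup Ω := inducedFunctor W S with hw
  have hwS : w ≤ S := w_le S
  have hwT : (w.subgroupOf S).map ι = inducedFunctor W (T : Subgroup L) :=
    w_map' hW hS hι.1 hT.symm
  set N : Subgroup L :=
    Subgroup.normalizer ((inducedFunctor W (T : Subgroup L) : Subgroup L) : Set L) with hN
  have hTN : (T : Subgroup L) ≤ N :=
    Subgroup.le_normalizer.trans (w_normalizer hW T.isPGroup')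
  have hSN : S ≤ normalizerIn S w :=
    le_inf le_rfl (Subgroup.le_normalizer.trans (w_normalizer hW hS))
  -- the focal subgroup theorem in `N`
  let TN : Sylow p N := T.subtype hTN
  have hTNe : (TN : Subgroup N) = (T : Subgroup L).subgroupOf N := rfl
  have hfoc : ∀ y ∈ ⁅N, N⁆, y ∈ (T : Subgroup L) → ∃ s ∈ θ.ker, ι s = y := by
    intro y hy hyT
    rw [← Subgroup.map_subtype_commutator] at hy
    obtain ⟨n, hn, rfl⟩ := hy
    have h1 : n ∈ (TN : Subgroup N).focalSubgroup := by
      rw [← Subgroup.commutator_inf_eq_focalSubgroup]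
      exact ⟨hn, hyT⟩
    have h2 : (TN : Subgroup N).focalSubgroup ≤ (θ.ker.map ι).comap N.subtype := by
      rw [Subgroup.focalSubgroup_def, Subgroup.closure_le]
      rintro g ⟨hgT, x, hx, u, rfl⟩
      -- `x = ι s`, `⁅x, u⁆ = ι t`
      have hx' : (x : L) ∈ ι.range := by
        rw [← hT]
        exact hx
      have hgT' : ((⁅x, u⁆ : N) : L) ∈ ι.range := by
        rw [← hT]
        exact hgT
      obtain ⟨s, hs⟩ := hx'
      obtain ⟨t, ht⟩ := hgT'
      have h3 : ((⁅x, u⁆ : N) : L) = x * (u * (x : L) * (u : L)⁻¹)⁻¹ := by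
        show (x : L) * u * (x : L)⁻¹ * (u : L)⁻¹ = _
        group
      have h4 : (u : L) * ι s * (u : L)⁻¹ = ι (t⁻¹ * s) := by
        rw [map_mul, map_inv, ht, h3, hs]
        group
      set P : Subgroup Ω := Subgroup.zpowers (s : Ω) ⊔ w with hP
      have hPS : P ≤ S := sup_le (by rw [Subgroup.zpowers_le]; exact s.2) hwS
      have hwP : w ≤ P := le_sup_right
      have hconj : ∀ x : P, (u : L) * ι ⟨x, hPS x.2⟩ * (u : L)⁻¹ ∈ ι.range := by
        have h5 : P ≤ ((ι.range.comap (MulAut.conj (u : L)).toMonoidHom).comap ι).map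
            S.subtype := by
          refine sup_le ?_ ?_
          · rw [Subgroup.zpowers_le]
            refine ⟨s, ?_, rfl⟩
            show (u : L) * ι s * (u : L)⁻¹ ∈ ι.range
            rw [h4]
            exact ⟨_, rfl⟩
          · intro z hz
            refine ⟨⟨z, hwS hz⟩, ?_, rfl⟩
            have h6 : ι ⟨z, hwS hz⟩ ∈ inducedFunctor W (T : Subgroup L) := by
              rw [← hwT]
              exact ⟨⟨z, hwS hz⟩, hz, rfl⟩
            have h7 := (Subgroup.mem_normalizer_iff.1 u.2 _).1 h6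
            show (u : L) * ι ⟨z, hwS hz⟩ * (u : L)⁻¹ ∈ ι.range
            rw [← hT]
            exact w_le _ h7
        rintro ⟨z, hz⟩
        obtain ⟨z', hz', rfl⟩ := h5 hz
        exact hz'
      obtain ⟨φ, hφ, hφe⟩ := exists_hom_of_conj hι hPS (u : L) hconj
      have hφS := hom_apply_mem hφ
      have hφw : (w.subgroupOf (P ⊔ w)).map
          (φ.comp (Subgroup.inclusion (sup_le le_rfl hwP))) = w := by
        have h8 : ∀ z : P, (z : Ω) ∈ w → φ z ∈ w := by
          intro z hz
          have h6 : ι ⟨z, hwS hz⟩ ∈ inducedFunctor W (T : Subgroup L) := by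
            rw [← hwT]
            exact ⟨⟨z, hwS hz⟩, hz, rfl⟩
          have h7 := (Subgroup.mem_normalizer_iff.1 u.2 _).1 h6
          rw [← hφe z (hφS z), ← hwT] at h7
          obtain ⟨v, hv, hve⟩ := h7
          have h9 := hι.1 hve
          have h10 : (v : Ω) = φ z := congrArg Subtype.val h9
          rw [← h10]
          exact hv
        have hfinw : Finite w := finite_of_le hwS
        refine Subgroup.eq_of_le_of_card_ge ?_ ?_
        · rintro _ ⟨z, hz, rfl⟩
          exact h8 _ hz
        · have hinj : Function.Injective (φ.comp (Subgroup.inclusion (sup_le le_rfl hwP) :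
              ↥(P ⊔ w) →* P)) :=
            (F.injective_of_mem hφ).comp (Subgroup.inclusion_injective _)
          have h9 : Nat.card ((w.subgroupOf (P ⊔ w)).map
              (φ.comp (Subgroup.inclusion (sup_le le_rfl hwP)))) =
              Nat.card (w.subgroupOf (P ⊔ w)) :=
            Nat.card_congr ((w.subgroupOf (P ⊔ w)).equivMapOfInjective _ hinj).toEquiv.symm
          rw [h9, Nat.card_congr (Subgroup.subgroupOfEquivOfLe (le_sup_right : w ≤ P ⊔ w)).toEquiv]
      have hmem : φ ∈ F.normalizerHom w P :=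
        ⟨hφ, hPS.trans hSN, fun x => hSN (hφS x), _, restrict_mem hφ _, fun x => rfl, hφw⟩
      have hsP : (s : Ω) ∈ P := le_sup_left (a := Subgroup.zpowers (s : Ω)) (b := w)
        (Subgroup.mem_zpowers _)
      have h11 := hg P φ hmem ⟨s, hsP⟩ s.2 (hφS _)
      have h12 : (⟨φ ⟨s, hsP⟩, hφS _⟩ : S) = t⁻¹ * s := by
        apply hι.1
        rw [hφe ⟨s, hsP⟩ (hφS _)]
        exact h4
      rw [h12, map_mul, map_inv] at h11
      have h13 : θ t = 1 := by
        have : θ ⟨(s : Ω), s.2⟩ = θ s := rfl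
        rw [this] at h11
        rw [inv_mul_eq_iff_eq_mul] at h11
        have h14 : θ t * θ s = 1 * θ s := by rw [one_mul]; exact h11.symm
        exact mul_right_cancel h14
      exact ⟨t, h13, ht⟩
    obtain ⟨s, hs, hse⟩ := h2 h1
    exact ⟨s, hs, hse⟩
  -- conclusion
  intro P φ hφ x hx hy
  have hPS := hom_le hφ
  obtain ⟨g, hge⟩ := (hι.2 P hPS φ (hom_apply_mem hφ)).1 hφ
  have h1 := hge x
  set a : S := ⟨x, hx⟩ with ha
  set b : S := ⟨φ x, hy⟩ with hb
  have h2 : ι b = g * ι a * g⁻¹ := h1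
  have h3 : ι (b * a⁻¹) ∈ (T : Subgroup L) ⊓ _root_.commutator L := by
    constructor
    · rw [SetLike.mem_coe, hT]
      exact ⟨_, rfl⟩
    · rw [map_mul, h2, map_inv]
      exact Subgroup.commutator_mem_commutator (Subgroup.mem_top g) (Subgroup.mem_top (ι a))
  obtain ⟨s, hs, hse⟩ := hfoc _ (inf_commutator_le hW hctl T h3) h3.1
  have h4 := hι.1 hse
  rw [h4, MonoidHom.mem_ker, map_mul, map_inv, mul_inv_eq_one] at hs
  exact hs

end Group

end Cfsg.Agent.H782.TrFunctor
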