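import Cfsg.Agent.H782.TrFactor

/-!
# Control of transfer in fusion systems (helper782)

`stable_of_good` : let `W` be a characteristic `p`-functor that controls transfer in every finite group. If `F` is
a saturated fusion system over `S` and `θ : S →* B` (`B` abelian) is stable under `N_F(W(S))`, then `θ` is
`F`-stable.
-/

set_option autoImplicit false

universe u v

namespace Cfsg.Agent.H782.TrMain

open Cfsg Cfsg.FusionSystem Cfsg.Agent.H802 Cfsg.Agent.H782.TrStab Cfsg.Agent.H782.TrFunctor
  Cfsg.Agent.H782.TrFactor

variable {p : ℕ} {W : ∀ (Q : Type u) [Group Q], Subgroup Q}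

section
variable {Ω : Type u} [Group Ω] {S : Subgroup Ω} {B : Type v} [CommGroup B]

theorem normalizerIn_eq_of_le {V : Subgroup Ω} (h : S ≤ Subgroup.normalizer (V : Set Ω)) :
    normalizerIn S V = S := inf_eq_left.2 h

/-- Nontrivial normal subgroups of `S` are good. -/
theorem good_of_normal [Finite S] [Fact p.Prime] (hS : IsPGroup p S)
    (hIH : Below p W B (Nat.card S)) (hW : IsCharPFunctor p W)
    (hctl : ∀ (G : Type u) [Group G] [Finite G],
      ControlsTransferIn p (inducedFunctor W) (⊤ : Subgroup G))
    {F : FusionSystem S} (hF : F.IsSaturated p) {θ : S →* B}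
    (hg : Good F θ (inducedFunctor W S)) {Q : Subgroup Ω} (hQ : Q ≤ S) (hQ1 : Q ≠ ⊥)
    (hQN : S ≤ Subgroup.normalizer (Q : Set Ω)) : Good F θ Q := by
  have main : ∀ n : ℕ, ∀ Q : Subgroup Ω, Q ≤ S → Q ≠ ⊥ → S ≤ Subgroup.normalizer (Q : Set Ω) →
      Nat.card S - Nat.card Q = n → Good F θ Q := by
    intro n
    induction n using Nat.strong_induction_on with
    | _ n ih =>
      intro Q hQ hQ1 hQN hn
      have hQfin : Finite Q := finite_of_le hQ
      have hNS : normalizerIn S Q = S := normalizerIn_eq_of_le hQN
      have hfn : F.IsFullyNormalized Q := ⟨hQ, fun R _ => by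
        rw [hNS]
        exact Nat.card_mono (Set.toFinite (S : Set Ω)) (inf_le_left : normalizerIn S R ≤ S)⟩
      obtain ⟨N, hN⟩ := exists_normalizerSystem F hQ
      have hNs := normalizerSystem_isSaturated hS hF hfn hN
      have hNn := NormSys.isNormal_of_isNormalizerSystem hQ hN
      set E : FusionSystem S := castSystem hNS N with hEdef
      have hEHom : ∀ P, E.Hom P = F.normalizerHom Q P := fun P => by
        rw [hEdef, castSystem_hom, hN]
      have hEle : ∀ P, E.Hom P ⊆ F.Hom P := fun P φ hφ => by
        rw [hEHom] at hφ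
        exact hφ.1
      have hEnorm : ∀ V P, E.normalizerHom V P ⊆ F.normalizerHom V P := by
        rintro V P φ ⟨h1, h2, h3, ψ, hψ, h4⟩
        exact ⟨hEle _ h1, h2, h3, ψ, hEle _ hψ, h4⟩
      have hst : Stable E θ := by
        refine stable_of_normal hS hIH hW hctl (isSaturated_cast hNS hNs)
          (isNormal_cast hNS hNn) hQ1 (fun V hV hVN hQV => ?_) (fun P φ hφ => hg P φ (hEnorm _ P hφ))
        have hVfin : Finite V := finite_of_le hV
        have h1 : Nat.card Q < Nat.card V := by
          refine lt_of_le_of_ne (Subgroup.card_le_of_le hQV.le) (fun heq => hQV.ne ?_)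
          exact Subgroup.eq_of_le_of_card_ge hQV.le heq.ge
        have h2 : Nat.card V ≤ Nat.card S := Subgroup.card_le_of_le hV
        have hVne : V ≠ ⊥ := by
          rintro rfl
          exact absurd hQV not_lt_bot
        have h3 := ih (Nat.card S - Nat.card V) (by omega) V hV hVne hVN rfl
        exact fun P φ hφ => h3 P φ (hEnorm V P hφ)
      intro P φ hφ
      rw [← hEHom] at hφ
      exact hst P φ hφ
  exact main _ Q hQ hQ1 hQN rfl

/-- Nontrivial subgroups of `S` are good. -/
theorem good_of_ne_bot [Finite S] [Fact p.Prime] (hS : IsPGroup p S)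
    (hIH : Below p W B (Nat.card S)) (hW : IsCharPFunctor p W)
    (hctl : ∀ (G : Type u) [Group G] [Finite G],
      ControlsTransferIn p (inducedFunctor W) (⊤ : Subgroup G))
    {F : FusionSystem S} (hF : F.IsSaturated p) {θ : S →* B}
    (hg : Good F θ (inducedFunctor W S)) {U : Subgroup Ω} (hU : U ≤ S) (hU1 : U ≠ ⊥) :
    Good F θ U := by
  have main : ∀ n : ℕ, ∀ U : Subgroup Ω, U ≤ S → U ≠ ⊥ →
      Nat.card S - Nat.card (normalizerIn S U) = n → Good F θ U := by
    intro n
    induction n using Nat.strong_induction_on with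
    | _ n ih =>
      intro U hU hU1 hn
      by_cases hPS : normalizerIn S U = S
      · exact good_of_normal hS hIH hW hctl hF hg hU hU1 (inf_eq_left.1 hPS)
      have hfinU : Finite U := finite_of_le hU
      have hcardU : 1 < Nat.card U := by
        have : Nontrivial U := (Subgroup.nontrivial_iff_ne_bot U).2 hU1
        exact Finite.one_lt_card
      have hfinN : Finite (normalizerIn S U) := finite_of_le inf_le_left
      have hUN : Nat.card U ≤ Nat.card (normalizerIn S U) :=
        Subgroup.card_le_of_le (le_normalizerIn hU)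
      have hNle : Nat.card (normalizerIn S U) ≤ Nat.card S := Subgroup.card_le_of_le inf_le_left
      have hNlt : Nat.card (normalizerIn S U) < Nat.card S := by
        refine lt_of_le_of_ne hNle (fun heq => hPS ?_)
        exact eq_of_le_card_eq inf_le_left heq
      have hbig : ∀ V : Subgroup Ω, V ≤ S → V ≠ ⊥ →
          Nat.card (normalizerIn S U) < Nat.card (normalizerIn S V) → Good F θ V := by
        intro V hV hV1 hlt
        have h2 : Nat.card (normalizerIn S V) ≤ Nat.card S := Subgroup.card_le_of_le inf_le_left
        exact ih _ (by omega) V hV hV1 rfl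
      have hsucc : ∀ R : Subgroup Ω, R ≤ S → Nat.card (normalizerIn S U) ≤ Nat.card R →
          Nat.card (normalizerIn S U) < Nat.card (normalizerIn S R) := by
        intro R hR hcard
        by_cases hRS : R = S
        · rw [hRS, normalizerIn_eq_of_le Subgroup.le_normalizer]
          exact hNlt
        · exact hcard.trans_lt (card_lt_card_normalizerIn hS hR hRS)
      have hinv : ∀ (R : Subgroup Ω), Nat.card (normalizerIn S U) ≤ Nat.card R →
          ∀ χ ∈ F.Hom R, Inv θ χ := by
        intro R hR χ hχ
        refine inv_of_card hS hF (fun R₁ hR₁ hcard φ hφ hr => ?_) hχ hR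
        have hR₁1 : R₁ ≠ ⊥ := by
          rintro rfl
          rw [Subgroup.card_bot] at hcard
          omega
        exact (hbig R₁ hR₁.1 hR₁1 (hsucc R₁ hR₁.1 hcard)).inv_aut hφ hr
      refine good_of_conj hS hF hU (hinv _ le_rfl) (fun V hc hV => ?_)
      have hVS := hV.1
      have hV1 : V ≠ ⊥ := by
        rintro rfl
        have := isConj_card_eq hc
        rw [Subgroup.card_bot] at this
        omega
      by_cases hlt : Nat.card (normalizerIn S U) < Nat.card (normalizerIn S V)
      · exact hbig V hVS hV1 hlt
      have heq : Nat.card (normalizerIn S V) = Nat.card (normalizerIn S U) :=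
        le_antisymm (not_lt.1 hlt) (hV.2 U (isConj_symm hc))
      -- induction in `N_F(V)`
      obtain ⟨N, hN⟩ := exists_normalizerSystem F hVS
      have hNs := normalizerSystem_isSaturated hS hF hV hN
      have hfinV : Finite (normalizerIn S V) := finite_of_le inf_le_left
      have hVp : IsPGroup p (normalizerIn S V) := hS.to_le inf_le_left
      set w : Subgroup Ω := inducedFunctor W (normalizerIn S V) with hw
      have hNV1 : normalizerIn S V ≠ ⊥ := by
        intro h
        apply hV1
        rw [eq_bot_iff, ← h]
        exact le_normalizerIn hVS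
      have hw1 : w ≠ ⊥ := w_ne_bot hW hVp hNV1
      have hwS : w ≤ S := (w_le _).trans inf_le_left
      have hwlt : Nat.card (normalizerIn S U) < Nat.card (normalizerIn S w) := by
        refine (hsucc (normalizerIn S V) inf_le_left heq.ge).trans_le ?_
        have hfinw : Finite (normalizerIn S w) := finite_of_le inf_le_left
        exact Subgroup.card_le_of_le (inf_le_inf_left S (w_normalizer hW hVp))
      have hgw := hbig w hwS hw1 hwlt
      let θ₂ : normalizerIn S V →* B := θ.comp (Subgroup.inclusion inf_le_left)
      have hgood : Good N θ₂ w := by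
        rintro P φ ⟨h1, h2, h3, ψ, hψ, h4, h5⟩
        have hNF : ∀ P, N.Hom P ⊆ F.Hom P := fun P φ hφ => by
          rw [hN] at hφ
          exact hφ.1
        have hsub : normalizerIn (normalizerIn S V) w ≤ normalizerIn S w :=
          inf_le_inf_right _ inf_le_left
        have h6 := hgw P φ ⟨hNF _ h1, h2.trans hsub, fun x => hsub (h3 x), ψ, hNF _ hψ, h4, h5⟩
        intro x hx hy
        exact h6 x hx.1 hy.1
      have hst := hIH Ω (normalizerIn S V) (heq ▸ hNlt) hVp N hNs θ₂ hgood
      intro P φ hφ x hx hy
      have hφ' := hφ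
      rw [← hN] at hφ'
      exact hst P φ hφ' x (hφ.2.1 x.2) (hφ.2.2.1 x)
  exact main _ U hU hU1 rfl

/-- **The induction step.** -/
theorem stable_step [Finite S] [Fact p.Prime] (hS : IsPGroup p S)
    (hIH : Below p W B (Nat.card S)) (hW : IsCharPFunctor p W)
    (hctl : ∀ (G : Type u) [Group G] [Finite G],
      ControlsTransferIn p (inducedFunctor W) (⊤ : Subgroup G))
    {F : FusionSystem S} (hF : F.IsSaturated p) {θ : S →* B}
    (hg : Good F θ (inducedFunctor W S)) : Stable F θ := by
  intro P φ hφ
  refine inv_of_card (n := 0) hS hF (fun R hR _ ψ hψ hr => ?_) hφ (Nat.zero_le _)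
  by_cases hR1 : R = ⊥
  · subst hR1
    intro x hx hy
    have hx1 : x = 1 := Subtype.ext (Subgroup.mem_bot.1 x.2)
    subst hx1
    congr 1
    apply Subtype.ext
    show ψ 1 = 1
    exact map_one ψ
  · exact (good_of_ne_bot hS hIH hW hctl hF hg hR.1 hR1).inv_aut hψ hr

end

theorem below_of_controls [Fact p.Prime] (hW : IsCharPFunctor p W)
    (hctl : ∀ (G : Type u) [Group G] [Finite G],
      ControlsTransferIn p (inducedFunctor W) (⊤ : Subgroup G)) (B : Type v) [CommGroup B] (n : ℕ) :
    Below p W B n := by
  induction n with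
  | zero =>
    intro Ω _ S _ h
    exact absurd h (Nat.not_lt_zero _)
  | succ n ih =>
    intro Ω _ S _ hlt hS F hF θ hg
    refine stable_step hS ?_ hW hctl hF hg
    intro Ω' _ S' _ hlt'
    exact ih Ω' S' (by omega)

/-- **Control of transfer in fusion systems.** -/
theorem stable_of_good [Fact p.Prime] (hW : IsCharPFunctor p W)
    (hctl : ∀ (G : Type u) [Group G] [Finite G],
      ControlsTransferIn p (inducedFunctor W) (⊤ : Subgroup G)) {Ω : Type u} [Group Ω]
    {S : Subgroup Ω} [Finite S] (hS : IsPGroup p S) {F : FusionSystem S} (hF : F.IsSaturated p)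
    {B : Type v} [CommGroup B] {θ : S →* B} (hg : Good F θ (inducedFunctor W S)) : Stable F θ :=
  below_of_controls hW hctl B (Nat.card S + 1) Ω S (Nat.lt_succ_self _) hS F hF θ hg

end Cfsg.Agent.H782.TrMain
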