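import Cfsg.Agent.H782.TrMain

/-!
# The focal subgroup is proper when `Aut_F(S)` is a `p`-group (helper782)

`focal_lt` : if some characteristic `p`-functor controls transfer in every finite group, `S ≠ 1` and `Aut_F(S)` is
a `p`-group, then `foc(F) < S`.
-/

set_option autoImplicit false

universe u

namespace Cfsg.Agent.H782.TrProper

open Cfsg Cfsg.FusionSystem Cfsg.Agent.H802 Cfsg.Agent.H782.TrStab Cfsg.Agent.H782.TrFunctor
  Cfsg.Agent.H782.TrFactor Cfsg.Agent.H782.TrMain

variable {p : ℕ} {W : ∀ (Q : Type u) [Group Q], Subgroup Q}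

section
variable {Ω : Type u} [Group Ω] {S : Subgroup Ω}

/-- If `Aut_F(S)` is a `p`-group it consists of inner automorphisms. -/
theorem exists_conj_of_aut [Finite S] [Fact p.Prime] (hS : IsPGroup p S) {F : FusionSystem S}
    (hF : F.IsSaturated p) (haut : IsPGroup p ↥(F.autGroup S)) {φ : S →* Ω} (hφ : φ ∈ F.Hom S) :
    ∃ s ∈ S, ∀ x : S, φ x = s * x * s⁻¹ := by
  have hfn : F.IsFullyNormalized S := ⟨le_rfl, fun R hR => by
    have h1 : R = S := eq_of_le_card_eq (isConj_le_right hR) (isConj_card_eq hR).symm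
    rw [h1]⟩
  have hfa := isFullyAutomized_of_isFullyNormalized hS hF hfn
  obtain ⟨R, hR⟩ := hfa.2
  have htop : (R : Subgroup (F.autGroup S)) = ⊤ := by
    have h1 := R.is_maximal' (haut.to_subgroup ⊤) le_top
    exact h1.symm
  have hr : φ.range = S := range_eq_of_mapsTo hφ (fun x => hom_apply_mem hφ x)
  obtain ⟨α, hα, hαe⟩ := exists_aut hφ hr
  have h2 : (⟨α, hα⟩ : F.autGroup S) ∈ (R : Subgroup (F.autGroup S)) := by
    rw [htop]
    exact Subgroup.mem_top _
  rw [hR] at h2
  obtain ⟨s, hs, he⟩ := (mem_autInducedBy_iff S S α).1 h2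
  exact ⟨s, hs, fun x => by rw [← hαe, he]⟩

theorem range_le_of_stable [Finite S] {F : FusionSystem S} {B : Type*} [CommGroup B]
    {θ : S →* B} (h : Stable F θ) : F.focalSubgroup ≤ θ.ker.map S.subtype :=
  H767.FusTransfer.focal_le θ (fun P φ hφ x => h P φ hφ x (hom_le hφ x.2) (hom_apply_mem hφ x))

theorem focal_lt_of_stable [Finite S] {F : FusionSystem S} {B : Type*} [CommGroup B]
    {θ : S →* B} (h : Stable F θ) (hne : ∃ s, θ s ≠ 1) : F.focalSubgroup < S := by
  obtain ⟨s, hs⟩ := hne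
  have h1 := range_le_of_stable h
  refine lt_of_le_of_ne (h1.trans (Subgroup.map_subtype_le _)) (fun heq => hs ?_)
  have h2 : (s : Ω) ∈ F.focalSubgroup := heq.ge s.2
  obtain ⟨t, ht, hte⟩ := h1 h2
  have : t = s := Subtype.ext hte
  rw [← this]
  exact ht

end

/-- Existence of a nontrivial stable homomorphism. -/
theorem exists_stable [Fact p.Prime] (hW : IsCharPFunctor p W)
    (hctl : ∀ (G : Type u) [Group G] [Finite G],
      ControlsTransferIn p (inducedFunctor W) (⊤ : Subgroup G)) (n : ℕ) :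
    ∀ (Ω : Type u) [Group Ω] (S : Subgroup Ω) [Finite S], Nat.card S < n → IsPGroup p S →
    S ≠ ⊥ → ∀ F : FusionSystem S, F.IsSaturated p → IsPGroup p ↥(F.autGroup S) →
    ∃ (B : Type u) (_ : CommGroup B) (θ : S →* B), Stable F θ ∧ ∃ s, θ s ≠ 1 := by
  induction n with
  | zero =>
    intro Ω _ S _ h
    exact absurd h (Nat.not_lt_zero _)
  | succ n ih =>
    intro Ω _ S _ hlt hS hS1 F hF haut
    set w : Subgroup Ω := inducedFunctor W S with hw
    have hwS : w ≤ S := w_le S
    have hwN : S ≤ Subgroup.normalizer (w : Set Ω) :=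
      Subgroup.le_normalizer.trans (w_normalizer hW hS)
    have hw1 : w ≠ ⊥ := w_ne_bot hW hS hS1
    have hSnt : Nontrivial S := (Subgroup.nontrivial_iff_ne_bot S).2 hS1
    by_cases hwe : w = S
    · -- `S` is normal in the local system
      refine ⟨Abelianization S, inferInstance, Abelianization.of, ?_, ?_⟩
      · refine stable_of_good hW hctl hS hF ?_
        rintro P φ ⟨h1, h2, h3, ψ, hψ, hψφ, -⟩
        have hSP : S ≤ P ⊔ w := hwe ▸ le_sup_right
        obtain ⟨s, hs, hse⟩ := exists_conj_of_aut hS hF haut (restrict_mem hψ hSP)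
        refine inv_of_conj _ hs (fun x => ?_)
        rw [← hψφ]
        exact hse ⟨x, hom_le h1 x.2⟩
      · by_contra hall
        push Not at hall
        have h1 : _root_.commutator S = ⊤ := by
          rw [eq_top_iff]
          intro x _
          rw [← Abelianization.ker_of, MonoidHom.mem_ker]
          exact hall x
        have hnil : Group.IsNilpotent S := hS.isNilpotent
        have hsol : Group.IsSolvable S := inferInstance
        exact (Group.IsSolvable.commutator_lt_top_of_nontrivial S).ne h1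
    -- the local system and its factor
    have hNS : normalizerIn S w = S := normalizerIn_eq_of_le hwN
    have hfn : F.IsFullyNormalized w := ⟨hwS, fun R _ => by
      rw [hNS]
      exact Nat.card_mono (Set.toFinite (S : Set Ω)) (inf_le_left : normalizerIn S R ≤ S)⟩
    obtain ⟨N, hN⟩ := exists_normalizerSystem F hwS
    have hNs := normalizerSystem_isSaturated hS hF hfn hN
    have hNn := NormSys.isNormal_of_isNormalizerSystem hwS hN
    obtain ⟨D, hDHom, hDs, hDn⟩ : ∃ D : FusionSystem S, (∀ P, D.Hom P = F.normalizerHom w P) ∧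
        D.IsSaturated p ∧ D.IsNormal w :=
      ⟨castSystem hNS N, fun P => by rw [castSystem_hom, hN], isSaturated_cast hNS hNs,
        isNormal_cast hNS hNn⟩
    have hwc := H759.IsNormal.stronglyClosed hDn
    have hnorm := H759.normal_subgroupOf_of_stronglyClosed hwc
    set π := QuotientGroup.mk' (w.subgroupOf S) with hπ
    have hker : ∀ s : S, π s = 1 ↔ (s : Ω) ∈ w := fun s => H759.mk'_eq_one_iff s
    have hrange : π.range = ⊤ := H759.range_mk'
    obtain ⟨E, hE⟩ := H759.exists_factorSystem hwc hker hrange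
    have hEs := H759.isSaturated_factor hS hDs hwc hE
    have hSp' : IsPGroup p (⊤ : Subgroup (S ⧸ w.subgroupOf S)) :=
      (hS.to_quotient (w.subgroupOf S)).to_subgroup _
    have hwfin : Finite w := finite_of_le hwS
    have hwcard : 1 < Nat.card w := by
      have : Nontrivial w := (Subgroup.nontrivial_iff_ne_bot w).2 hw1
      exact Finite.one_lt_card
    have hmulcard : Nat.card (S ⧸ w.subgroupOf S) * Nat.card w = Nat.card S := by
      rw [Subgroup.card_eq_card_quotient_mul_card_subgroup (w.subgroupOf S),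
        Nat.card_congr (Subgroup.subgroupOfEquivOfLe hwS).toEquiv]
    have hpos : 0 < Nat.card (S ⧸ w.subgroupOf S) := Nat.card_pos
    have hcardlt : Nat.card (⊤ : Subgroup (S ⧸ w.subgroupOf S)) < n := by
      rw [Subgroup.card_top]
      have : Nat.card (S ⧸ w.subgroupOf S) < Nat.card S := by nlinarith
      omega
    have hntop : (⊤ : Subgroup (S ⧸ w.subgroupOf S)) ≠ ⊥ := by
      intro h
      apply hwe
      refine le_antisymm hwS (fun x hx => ?_)
      have h1 : π ⟨x, hx⟩ ∈ (⊥ : Subgroup (S ⧸ w.subgroupOf S)) := h ▸ Subgroup.mem_top _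
      exact (hker ⟨x, hx⟩).1 (Subgroup.mem_bot.1 h1)
    -- the automorphism group of the factor
    have hautE : IsPGroup p ↥(E.autGroup (⊤ : Subgroup (S ⧸ w.subgroupOf S))) := by
      rintro ⟨α, hα⟩
      have hα' := (mem_autGroup_iff E le_top α).1 hα
      obtain ⟨φ, hφ, hφe⟩ := H759.exists_map_of_factor hE hα'
      have hSpre : S ≤ preimageAlong π (⊤ : Subgroup (S ⧸ w.subgroupOf S)) := fun x hx =>
        H759.mem_preimageAlong.2 ⟨hx, Subgroup.mem_top _⟩
      have hφF : φ ∈ F.Hom _ := by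
        rw [hDHom] at hφ
        exact hφ.1
      have hφS := restrict_mem hφF hSpre
      obtain ⟨s, hs, hse⟩ := exists_conj_of_aut hS hF haut hφS
      -- so `α` is conjugation by `π s`
      have hαc : ∀ x : (⊤ : Subgroup (S ⧸ w.subgroupOf S)),
          ((α x : (⊤ : Subgroup (S ⧸ w.subgroupOf S))) : S ⧸ w.subgroupOf S) =
            π ⟨s, hs⟩ * x * (π ⟨s, hs⟩)⁻¹ := by
        rintro ⟨x, hx⟩
        obtain ⟨t, rfl⟩ := QuotientGroup.mk'_surjective (w.subgroupOf S) x
        rw [← hπ]
        have h1 := hφe t (hSpre t.2) t.2 hx (hom_apply_mem hφF _)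
        refine h1.trans ?_
        rw [← map_inv, ← map_mul, ← map_mul]
        congr 1
        exact Subtype.ext (hse t)
      have hmem : α ∈ autInducedBy (⊤ : Subgroup (S ⧸ w.subgroupOf S)) ⊤ :=
        (mem_autInducedBy_iff _ _ α).2 ⟨π ⟨s, hs⟩, Subgroup.mem_top _, hαc⟩
      have hp := isPGroup_autInducedBy hSp' (⊤ : Subgroup (S ⧸ w.subgroupOf S))
      obtain ⟨k, hk⟩ := hp ⟨α, hmem⟩
      refine ⟨k, ?_⟩
      apply Subtype.ext
      have h1 := congrArg Subtype.val hk
      exact h1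
    obtain ⟨B, hB, θb, hθst, s', hs'⟩ := ih _ _ hcardlt hSp' hntop E hEs hautE
    let θ : S →* B := θb.comp (π.codRestrict ⊤ (fun _ => Subgroup.mem_top _))
    have hθv : ∀ (s : S) (h : π s ∈ (⊤ : Subgroup (S ⧸ w.subgroupOf S))),
      θ s = θb ⟨π s, h⟩ := fun s h => rfl
    refine ⟨B, hB, θ, stable_of_good hW hctl hS hF ?_, ?_⟩
    · rintro P φ ⟨h1, h2, h3, ψ, hψ, hψφ, hψw⟩ x hx hy
      have hPwS : P ⊔ w ≤ S := hom_le hψ
      have hψD : ψ ∈ D.Hom (P ⊔ w) := by
        rw [hDHom]
        refine mem_normalizerHom_of_mapsTo hψ le_sup_right (hPwS.trans hwN) (fun z hz => ?_)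
        exact hψw.le ⟨z, hz, rfl⟩
      have hpre : preimageAlong π (imageAlong π (P ⊔ w)) ≤ P ⊔ w := by
        intro y hy
        obtain ⟨hyS, hy'⟩ := H759.mem_preimageAlong.1 hy
        obtain ⟨r, hr, hrR, hry⟩ := H759.mem_imageAlong.1 hy'
        have h1 := (H759.theta_eq_iff hE).1 hry
        have h2 : y = r * (r⁻¹ * y) := by group
        rw [h2]
        exact Subgroup.mul_mem _ hrR ((le_sup_right : w ≤ P ⊔ w) h1)
      obtain ⟨φ', hφ', he⟩ := H759.exists_factor_map hwc hE hψD
        (P' := imageAlong π (P ⊔ w)) le_top hpre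
      have hxPQ : (x : Ω) ∈ P ⊔ w := (le_sup_left : P ≤ P ⊔ w) x.2
      have hxi : π ⟨x, hx⟩ ∈ imageAlong π (P ⊔ w) := H759.mem_imageAlong.2 ⟨x, hx, hxPQ, rfl⟩
      have e1 := he x hxPQ hx hxi (hom_apply_mem hψ _)
      have e2 := hθst _ φ' hφ' ⟨π ⟨x, hx⟩, hxi⟩ (Subgroup.mem_top _) (Subgroup.mem_top _)
      have e3 : ψ ⟨x, hxPQ⟩ = φ x := hψφ x
      have e4 : (⟨φ x, hy⟩ : S) = ⟨ψ ⟨x, hxPQ⟩, hom_apply_mem hψ _⟩ := Subtype.ext e3.symm
      rw [e4, hθv _ (Subgroup.mem_top _), hθv _ (Subgroup.mem_top _), ← e2]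
      congr 1
      exact Subtype.ext e1.symm
    · obtain ⟨y, hy⟩ := s'
      obtain ⟨t, rfl⟩ := QuotientGroup.mk'_surjective (w.subgroupOf S) y
      exact ⟨t, hs'⟩

/-- **The focal subgroup is proper.** -/
theorem focal_lt [Fact p.Prime] (hW : IsCharPFunctor p W)
    (hctl : ∀ (G : Type u) [Group G] [Finite G],
      ControlsTransferIn p (inducedFunctor W) (⊤ : Subgroup G)) {Ω : Type u} [Group Ω]
    {S : Subgroup Ω} [Finite S] (hS : IsPGroup p S) {F : FusionSystem S} (hF : F.IsSaturated p)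
    (hS1 : S ≠ ⊥) (haut : IsPGroup p ↥(F.autGroup S)) : F.focalSubgroup < S := by
  obtain ⟨B, hB, θ, h1, h2⟩ := exists_stable hW hctl (Nat.card S + 1) Ω S (Nat.lt_succ_self _) hS
    hS1 F hF haut
  exact focal_lt_of_stable h1 h2

end Cfsg.Agent.H782.TrProper
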